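import Groth.Agent.Lib.AlgSpGeomRed.Basic
import Groth.Agent.Lib.GeomConn.Geometric

/-!
# Base change of algebraic spaces along field extensions: points, Galois action, components
-/

set_option autoImplicit false
set_option backward.isDefEq.respectTransparency false
set_option backward.isDefEq.respectTransparency.types false
set_option linter.style.haveILetI false

universe u

open CategoryTheory CategoryTheory.Limits AlgebraicGeometry Topology
open AlgSp Groth.Agent.Lib.AlgSpace Groth.Agent.Lib.AlgSpGeomRed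

namespace Groth.Agent.Lib.AlgSpGeomConn

/-! ### General base -/

section General

variable {S : Scheme.{u}} {t t' : Over S} {F : Sp S} {U : Over S}

/-- Change of the second factor. -/
noncomputable def prodMapObj (U : Over S) (g : t ⟶ t') : prodObj U t ⟶ prodObj U t' :=
  Over.homMk (pullback.lift (pullback.fst U.hom t.hom) (pullback.snd U.hom t.hom ≫ g.left)
    (by rw [Category.assoc, Over.w g]; exact pullback.condition))
    (by show pullback.lift _ _ _ ≫ pullback.fst _ _ ≫ U.hom = pullback.fst _ _ ≫ U.hom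
        rw [pullback.lift_fst_assoc])

theorem prodMapObj_fst (g : t ⟶ t') : prodMapObj U g ≫ prodFst U t' = prodFst U t :=
  Over.OverMorphism.ext (pullback.lift_fst _ _ _)

theorem prodMapObj_snd (g : t ⟶ t') : prodMapObj U g ≫ prodSnd U t' = prodSnd U t ≫ g :=
  Over.OverMorphism.ext (pullback.lift_snd _ _ _)

theorem prodChart_prodMap (a : (yon S).obj U ⟶ F) (g : t ⟶ t') :
    prodChart t a ≫ prod.map (𝟙 F) ((yon S).map g) = (yon S).map (prodMapObj U g) ≫ prodChart t' a := by
  refine prod.hom_ext ?_ ?_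
  · rw [Category.assoc, prod.map_fst, Category.comp_id, prodChart_fst, Category.assoc, prodChart_fst,
      ← Category.assoc, ← Functor.map_comp, prodMapObj_fst]
  · rw [Category.assoc, prod.map_snd, ← Category.assoc, prodChart_snd, Category.assoc, prodChart_snd,
      ← Functor.map_comp, ← Functor.map_comp, prodMapObj_snd]

theorem isPullback_prodMapObj (a : (yon S).obj U ⟶ F) (g : t ⟶ t') :
    IsPullback ((yon S).map (prodMapObj U g)) (prodChart t a) (prodChart t' a)
      (prod.map (𝟙 F) ((yon S).map g)) := by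
  refine IsPullback.of_right ?_ (prodChart_prodMap a g).symm (isPullback_prodChart t' a)
  rw [← Functor.map_comp, prodMapObj_fst, prod.map_fst, Category.comp_id]
  exact isPullback_prodChart t a

/-- The points of a fibre product with a chart over a fixed point. -/
theorem exists_ofPt_of_isPullback {X Y : Sp S} {f : X ⟶ Y} {A B : Over S} {a : (yon S).obj A ⟶ X}
    {b : (yon S).obj B ⟶ Y} {h : A ⟶ B} (sq : IsPullback ((yon S).map h) a b f) (x : Points X) (v : ↥B.left)
    (e : Points.map f x = Points.ofPt b v) : ∃ w : ↥A.left, h.left w = v ∧ Points.ofPt a w = x := by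
  obtain ⟨z, hz₁, hz₂⟩ := exists_of_isPullback sq (Points.ofPt (𝟙 ((yon S).obj B)) v) x
    (by rw [Points.map_ofPt, Category.id_comp, e])
  obtain ⟨T, g, τ, rfl⟩ := exists_ofPt_eq z
  obtain ⟨c, rfl⟩ := (yon S).map_surjective g
  refine ⟨c.left τ, ?_, ?_⟩
  · rw [Points.map_ofPt, ← Functor.map_comp, ← (yon S).map_id] at hz₁
    have := congrArg (Points.toScheme B) hz₁
    rw [Points.toScheme_ofPt, Points.toScheme_ofPt] at this
    exact this
  · rw [← ofPt_yon_map_comp, ← hz₂, Points.map_ofPt]

theorem preimage_image_of_isPullback {X Y : Sp S} {f : X ⟶ Y} {A B : Over S} {a : (yon S).obj A ⟶ X}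
    {b : (yon S).obj B ⟶ Y} {h : A ⟶ B} (sq : IsPullback ((yon S).map h) a b f) (W : Set (Points X)) :
    Points.ofPt b ⁻¹' (Points.map f '' W) = h.left '' (Points.ofPt a ⁻¹' W) := by
  ext v
  constructor
  · rintro ⟨x, hx, e⟩
    obtain ⟨w, hw, rfl⟩ := exists_ofPt_of_isPullback sq x v e
    exact ⟨w, hx, hw⟩
  · rintro ⟨w, hw, rfl⟩
    exact ⟨_, hw, by rw [Points.map_ofPt, ← sq.w, ofPt_yon_map_comp]⟩

theorem map_ofPt_of_isPullback {X Y : Sp S} {f : X ⟶ Y} {A B : Over S} {a : (yon S).obj A ⟶ X}
    {b : (yon S).obj B ⟶ Y} {h : A ⟶ B} (sq : IsPullback ((yon S).map h) a b f) (w : ↥A.left) :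
    Points.map f (Points.ofPt a w) = Points.ofPt b (h.left w) := by
  rw [Points.map_ofPt, ← sq.w, ofPt_yon_map_comp]

/-- Fibres on points are images of fibres on charts. -/
theorem preimage_singleton_of_isPullback {X Y : Sp S} {f : X ⟶ Y} {A B : Over S} {a : (yon S).obj A ⟶ X}
    {b : (yon S).obj B ⟶ Y} {h : A ⟶ B} (sq : IsPullback ((yon S).map h) a b f) (v : ↥B.left) :
    Points.map f ⁻¹' {Points.ofPt b v} = Points.ofPt a '' (h.left ⁻¹' {v}) := by
  ext x
  constructor
  · intro hx
    obtain ⟨w, hw, rfl⟩ := exists_ofPt_of_isPullback sq x v hx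
    exact ⟨w, hw, rfl⟩
  · rintro ⟨w, rfl, rfl⟩
    exact map_ofPt_of_isPullback sq w

theorem isOpenMap_map_of_chart {X Y : Sp S} {f : X ⟶ Y} {A B : Over S} {a : (yon S).obj A ⟶ X}
    {b : (yon S).obj B ⟶ Y} {h : A ⟶ B} (sq : IsPullback ((yon S).map h) a b f)
    (hb : RepWith @Etale b) (hbs : RepWith @Surjective b) (ho : IsOpenMap h.left) :
    IsOpenMap (Points.map f) := fun W hW => by
  rw [isOpen_iff_chart hb hbs, preimage_image_of_isPullback sq]
  exact ho _ (hW.preimage (Points.continuous_ofPt a))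

theorem isClosedMap_map_of_chart {X Y : Sp S} {f : X ⟶ Y} {A B : Over S} {a : (yon S).obj A ⟶ X}
    {b : (yon S).obj B ⟶ Y} {h : A ⟶ B} (sq : IsPullback ((yon S).map h) a b f)
    (hb : RepWith @Etale b) (hbs : RepWith @Surjective b) (ho : IsClosedMap h.left) :
    IsClosedMap (Points.map f) := fun W hW => by
  rw [← isOpen_compl_iff, isOpen_iff_chart hb hbs, Set.preimage_compl, preimage_image_of_isPullback sq,
    isOpen_compl_iff]
  exact ho _ (hW.preimage (Points.continuous_ofPt a))

theorem surjective_map_of_chart {X Y : Sp S} {f : X ⟶ Y} {A B : Over S} {a : (yon S).obj A ⟶ X}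
    {b : (yon S).obj B ⟶ Y} {h : A ⟶ B} (sq : IsPullback ((yon S).map h) a b f)
    (hbs : RepWith @Surjective b) (hs : Function.Surjective h.left) :
    Function.Surjective (Points.map f) := fun y => by
  obtain ⟨v, rfl⟩ := surjective_ofPt hbs y
  obtain ⟨w, rfl⟩ := hs v
  exact ⟨_, map_ofPt_of_isPullback sq w⟩

end General

/-! ### Over a field -/

variable {k : Type u} [Field k]

/-- The object `Spec K` over `k`. -/
noncomputable abbrev specObj (k : Type u) [Field k] (K : Type u) [Field K] [Algebra k K] :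
    Over (Spec (CommRingCat.of k)) :=
  Over.mk (Spec.map (CommRingCat.ofHom (algebraMap k K)))

/-- The base change. -/
noncomputable abbrev bcSp (X : Sp (Spec (CommRingCat.of k))) (K : Type u) [Field K] [Algebra k K] :
    Sp (Spec (CommRingCat.of k)) :=
  X ⨯ (yon (Spec (CommRingCat.of k))).obj (specObj k K)

/-- The map of field objects of a tower. -/
noncomputable def towerObj (L K : Type u) [Field L] [Field K] [Algebra k L] [Algebra k K] [Algebra L K]
    [IsScalarTower k L K] : specObj k K ⟶ specObj k L :=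
  Over.homMk (Spec.map (CommRingCat.ofHom (algebraMap L K))) (by
    show Spec.map _ ≫ Spec.map _ = Spec.map _
    rw [← Spec.map_comp, ← CommRingCat.ofHom_comp, ← IsScalarTower.algebraMap_eq])

/-- The automorphism of `Spec K` over `k`. -/
noncomputable def galObj {K : Type u} [Field K] [Algebra k K] (σ : K ≃ₐ[k] K) :
    specObj k K ⟶ specObj k K :=
  Over.homMk (Spec.map (CommRingCat.ofHom (σ : K →ₐ[k] K).toRingHom)) (by
    show Spec.map _ ≫ Spec.map _ = Spec.map _
    rw [← Spec.map_comp, ← CommRingCat.ofHom_comp]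
    exact congrArg (fun f => Spec.map (CommRingCat.ofHom f)) (RingHom.ext fun x => σ.commutes x))

theorem galObj_one {K : Type u} [Field K] [Algebra k K] : galObj (1 : K ≃ₐ[k] K) = 𝟙 _ :=
  Over.OverMorphism.ext (Spec.map_id _)

theorem galObj_mul {K : Type u} [Field K] [Algebra k K] (σ τ : K ≃ₐ[k] K) :
    galObj σ ≫ galObj τ = galObj (σ * τ) := Over.OverMorphism.ext (Spec.map_comp _ _).symm

variable (X : AlgSp.Space (Spec (CommRingCat.of k)))

/-- The action of the automorphism group on the points of the base change. -/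
noncomputable instance mulAction (K : Type u) [Field K] [Algebra k K] :
    MulAction (K ≃ₐ[k] K) (Points (bcSp X.obj K)) where
  smul g x := Points.map (prod.map (𝟙 X.obj) ((yon _).map (galObj g⁻¹))) x
  one_smul x := by
    show Points.map (prod.map (𝟙 X.obj) ((yon _).map (galObj (1 : K ≃ₐ[k] K)⁻¹))) x = x
    rw [inv_one, galObj_one, CategoryTheory.Functor.map_id, prod.map_id_id]
    exact Points.map_id x
  mul_smul g h x := by
    show Points.map (prod.map (𝟙 X.obj) ((yon _).map (galObj (g * h)⁻¹))) x =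
      Points.map (prod.map (𝟙 X.obj) ((yon _).map (galObj g⁻¹)))
        (Points.map (prod.map (𝟙 X.obj) ((yon _).map (galObj h⁻¹))) x)
    rw [← Points.map_comp, prod.map_map, Category.id_comp, ← Functor.map_comp, galObj_mul, mul_inv_rev]

theorem smul_def {K : Type u} [Field K] [Algebra k K] (g : K ≃ₐ[k] K) (x : Points (bcSp X.obj K)) :
    g • x = Points.map (prod.map (𝟙 X.obj) ((yon _).map (galObj g⁻¹))) x := rfl

instance continuousConstSMul (K : Type u) [Field K] [Algebra k K] :
    ContinuousConstSMul (K ≃ₐ[k] K) (Points (bcSp X.obj K)) :=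
  ⟨fun g => Points.continuous_map (prod.map (𝟙 X.obj) ((yon _).map (galObj g⁻¹)))⟩

variable {X} {U : Over (Spec (CommRingCat.of k))} (a : (yon (Spec (CommRingCat.of k))).obj U ⟶ X.obj)

theorem smul_ofPt {K : Type u} [Field K] [Algebra k K] (g : K ≃ₐ[k] K)
    (v : ↥(prodObj U (specObj k K)).left) :
    g • Points.ofPt (prodChart (specObj k K) a) v =
      Points.ofPt (prodChart (specObj k K) a) (@Curv2.galAct k _ U.left ⟨U.hom⟩ K _ _ g⁻¹ v) := by
  rw [smul_def, map_ofPt_of_isPullback (isPullback_prodMapObj a (galObj g⁻¹))]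
  rfl

theorem prodMapObj_tower_left (L K : Type u) [Field L] [Field K] [Algebra k L] [Algebra k K] [Algebra L K]
    [IsScalarTower k L K] :
    (prodMapObj U (towerObj (k := k) L K)).left =
      @Groth.Agent.Lib.GeomConn.Components.bcMap k _ U.left ⟨U.hom⟩ L K _ _ _ _ _ _ :=
  pullback.hom_ext
    ((pullback.lift_fst _ _ _).trans (@Groth.Agent.Lib.GeomConn.Components.bcMap_fst k _ U.left ⟨U.hom⟩ L K _ _ _ _ _ _).symm)
    ((pullback.lift_snd _ _ _).trans (@Groth.Agent.Lib.GeomConn.Components.bcMap_snd k _ U.left ⟨U.hom⟩ L K _ _ _ _ _ _).symm)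

variable (X)

/-- The projection `X_K ⟶ X` on points. -/
noncomputable abbrev π (K : Type u) [Field K] [Algebra k K] : Points (bcSp X.obj K) → Points X.obj :=
  Points.map (prod.fst : bcSp X.obj K ⟶ X.obj)

theorem isOpenQuotientMap_π (K : Type u) [Field K] [Algebra k K] : IsOpenQuotientMap (π X K) := by
  obtain ⟨U, a, ha, hs⟩ := X.property.atlas
  letI : U.left.Over (Spec (CommRingCat.of k)) := ⟨U.hom⟩
  exact ⟨surjective_map_of_chart (isPullback_prodChart (specObj k K) a) hs
      (GeomConn.Galois.surjective_bcFst k U.left K).surj, Points.continuous_map _,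
    isOpenMap_map_of_chart (isPullback_prodChart (specObj k K) a) ha hs
      (GeomConn.Galois.isOpenMap_bcFst k U.left K)⟩

theorem isOrbitMap (K : Type u) [Field K] [Algebra k K] [IsGalois k K] :
    GeomConn.OrbitQuot.IsOrbitMap (K ≃ₐ[k] K) (π X K) := by
  obtain ⟨U, a, ha, hs⟩ := X.property.atlas
  letI : U.left.Over (Spec (CommRingCat.of k)) := ⟨U.hom⟩
  have sq := isPullback_prodChart (specObj k K) a
  refine ⟨Points.continuous_map _, (isOpenQuotientMap_π X K).isOpenMap, ?_, (isOpenQuotientMap_π X K).surjective, ?_, ?_, ?_⟩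
  · haveI := GeomConn.Galois.isIntegralHom_bcFst k U.left K
    exact isClosedMap_map_of_chart sq ha hs (Curv2.bcFst k U.left K).isClosedMap
  · intro g x
    rw [π, smul_def, ← Points.map_comp, prod.map_fst, Category.comp_id]
  · intro x y h
    obtain ⟨u, hu⟩ := surjective_ofPt hs (π X K x)
    obtain ⟨v, hv, rfl⟩ := exists_ofPt_of_isPullback sq x u hu.symm
    obtain ⟨w, hw, rfl⟩ := exists_ofPt_of_isPullback sq y u (h.symm.trans hu.symm)
    obtain ⟨σ, hσ⟩ := GeomConn.Galois.exists_galAct_eq k U.left K v w (hv.trans hw.symm)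
    exact ⟨σ⁻¹, by rw [smul_ofPt, inv_inv, hσ]⟩
  · intro x O hO hx
    obtain ⟨v, rfl⟩ := surjective_ofPt (repWith_prodChart (specObj k K) hs) x
    obtain ⟨V, hV, hvV, hVO, N, hN⟩ := GeomConn.Galois.exists_basic k U.left K v _
      (hO.preimage (Points.continuous_ofPt (prodChart (specObj k K) a))) hx
    refine ⟨_, isOpenMap_ofPt (repWith_prodChart (specObj k K) ha) V hV, ⟨v, hvV, rfl⟩,
      Set.image_subset_iff.2 hVO, N, ?_⟩
    rintro g hg _ ⟨w, hw, rfl⟩
    exact ⟨_, hN g hg w hw, (smul_ofPt a g w).symm⟩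

/-- The map `X_K ⟶ X_L` of a tower on points. -/
noncomputable abbrev ρ (L K : Type u) [Field L] [Field K] [Algebra k L] [Algebra k K] [Algebra L K]
    [IsScalarTower k L K] : Points (bcSp X.obj K) → Points (bcSp X.obj L) :=
  Points.map (prod.map (𝟙 X.obj) ((yon _).map (towerObj L K)))

theorem isOpenQuotientMap_ρ (L K : Type u) [Field L] [Field K] [Algebra k L] [Algebra k K] [Algebra L K]
    [IsScalarTower k L K] : IsOpenQuotientMap (ρ X L K) := by
  obtain ⟨U, a, ha, hs⟩ := X.property.atlas
  letI : U.left.Over (Spec (CommRingCat.of k)) := ⟨U.hom⟩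
  have sq := isPullback_prodMapObj a (towerObj (k := k) L K)
  refine ⟨surjective_map_of_chart sq (repWith_prodChart _ hs) ?_, Points.continuous_map _,
    isOpenMap_map_of_chart sq (repWith_prodChart _ ha) (repWith_prodChart _ hs) ?_⟩
  · rw [prodMapObj_tower_left]
    exact GeomConn.Components.bcMap_surjective k U.left L K
  · rw [prodMapObj_tower_left]
    exact GeomConn.Components.bcMap_isOpenMap k U.left L K

/-- Points with the same image in `X_E` are conjugate by an element fixing `E`. -/
theorem exists_fixing_smul_eq (L : Type u) [Field L] [Algebra k L] [Normal k L] (E : IntermediateField k L)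
    (x y : Points (bcSp X.obj L)) (h : ρ X E L x = ρ X E L y) :
    ∃ g : L ≃ₐ[k] L, (∀ c ∈ E, g c = c) ∧ g • x = y := by
  obtain ⟨U, a, ha, hs⟩ := X.property.atlas
  letI : U.left.Over (Spec (CommRingCat.of k)) := ⟨U.hom⟩
  have sq := isPullback_prodMapObj a (towerObj (k := k) E L)
  obtain ⟨u, hu⟩ := surjective_ofPt (repWith_prodChart (specObj k E) hs) (ρ X E L x)
  obtain ⟨v, hv, rfl⟩ := exists_ofPt_of_isPullback sq x u hu.symm
  obtain ⟨w, hw, rfl⟩ := exists_ofPt_of_isPullback sq y u (h.symm.trans hu.symm)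
  have h' := hv.trans hw.symm
  rw [prodMapObj_tower_left] at h'
  obtain ⟨σ, hσf, hσ⟩ := GeomConn.Geometric.exists_galAct_fixing_eq k U.left L E v w h'
  refine ⟨σ⁻¹, fun c hc => ?_, by rw [smul_ofPt, inv_inv, hσ]⟩
  conv_lhs => rw [← hσf c hc]
  exact σ.symm_apply_apply c

theorem isConnected_preimage_singleton {A B : Scheme.{u}} (f : A ⟶ B) [GeometricallyConnected f] (b : B) :
    _root_.IsConnected (f ⁻¹' {b}) := by
  rw [← f.range_fiberι b]
  exact isConnected_range (f.fiberι b).continuous

/-- Over a separably closed field the fibres of `X_K ⟶ X` are connected. -/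
theorem isConnected_π_fibre [IsSepClosed k] (K : Type u) [Field K] [Algebra k K] (x : Points X.obj) :
    _root_.IsConnected (π X K ⁻¹' {x}) := by
  obtain ⟨U, a, ha, hs⟩ := X.property.atlas
  letI : U.left.Over (Spec (CommRingCat.of k)) := ⟨U.hom⟩
  obtain ⟨u, rfl⟩ := surjective_ofPt hs x
  rw [π, preimage_singleton_of_isPullback (isPullback_prodChart (specObj k K) a)]
  have := GeomConn.Components.geometricallyConnected_bcFst k U.left K
  exact (isConnected_preimage_singleton (Curv2.bcFst k U.left K) u).image _ (Points.continuous_ofPt _).continuousOn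

/-- Over a separably closed intermediate field the fibres of `X_K ⟶ X_L` are connected. -/
theorem isConnected_ρ_fibre (L K : Type u) [Field L] [Field K] [Algebra k L] [Algebra k K] [Algebra L K]
    [IsScalarTower k L K] [IsSepClosed L] (x : Points (bcSp X.obj L)) : _root_.IsConnected (ρ X L K ⁻¹' {x}) := by
  obtain ⟨U, a, ha, hs⟩ := X.property.atlas
  letI : U.left.Over (Spec (CommRingCat.of k)) := ⟨U.hom⟩
  obtain ⟨u, rfl⟩ := surjective_ofPt (repWith_prodChart (specObj k L) hs) x
  rw [ρ, preimage_singleton_of_isPullback (isPullback_prodMapObj a (towerObj (k := k) L K)), prodMapObj_tower_left]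
  have := GeomConn.Components.bcMap_geometricallyConnected k U.left L K
  exact (isConnected_preimage_singleton (GeomConn.Components.bcMap k U.left L K) u).image _ (Points.continuous_ofPt _).continuousOn

end Groth.Agent.Lib.AlgSpGeomConn
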