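import Groth.Agent.Lib.AlgSpGeomConn.Basic
import Mathlib.Topology.Homeomorph.Lemmas

/-!
# Geometric connectedness of algebraic spaces over a field
-/

set_option autoImplicit false
set_option backward.isDefEq.respectTransparency false
set_option backward.isDefEq.respectTransparency.types false
set_option linter.style.haveILetI false

universe u

open CategoryTheory CategoryTheory.Limits AlgebraicGeometry Topology
open AlgSp Groth.Agent.Lib.AlgSpace

namespace Groth.Agent.Lib.AlgSpGeomConn

variable {k : Type u} [Field k] (X : AlgSp.Space (Spec (CommRingCat.of k)))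

theorem bijective_of_fibres {A B : Type*} [TopologicalSpace A] [TopologicalSpace B] {f : A → B}
    (hf : IsOpenQuotientMap f) (h : ∀ b, _root_.IsConnected (f ⁻¹' {b})) :
    Function.Bijective (Continuous.connectedComponentsMap hf.continuous) :=
  hf.isQuotientMap.isCoinducing.connectedComponentsMap_bijective h

theorem connectedSpace_of_fibres {A B : Type*} [TopologicalSpace A] [TopologicalSpace B] {f : A → B}
    (hf : IsOpenQuotientMap f) (h : ∀ b, _root_.IsConnected (f ⁻¹' {b})) [ConnectedSpace B] :
    ConnectedSpace A := by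
  haveI : Nonempty A := ⟨(hf.surjective (Classical.arbitrary B)).choose⟩
  refine @ConnectedSpace.mk _ _ ?_ inferInstance
  rw [preconnectedSpace_iff_connectedComponent]
  intro x
  refine Set.eq_univ_of_forall fun y => ?_
  have : ConnectedComponents.mk (f x) = ConnectedComponents.mk (f y) := by
    rw [ConnectedComponents.coe_eq_coe']
    rw [PreconnectedSpace.connectedComponent_eq_univ]
    trivial
  have e := (bijective_of_fibres hf h).1 (a₁ := ConnectedComponents.mk y) (a₂ := ConnectedComponents.mk x) this.symm
  exact ConnectedComponents.coe_eq_coe'.1 e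

theorem connectedSpace_of_tower (K Ω : Type u) [Field K] [Field Ω] [Algebra k K] [Algebra k Ω]
    [Algebra K Ω] [IsScalarTower k K Ω] [ConnectedSpace (Points (bcSp X.obj Ω))] :
    ConnectedSpace (Points (bcSp X.obj K)) :=
  GeomConn.Geometric.connectedSpace_of_surjective (isOpenQuotientMap_ρ X K Ω).continuous
    (isOpenQuotientMap_ρ X K Ω).surjective

theorem connectedSpace_of_sepClosed_tower (L K : Type u) [Field L] [Field K] [Algebra k L] [Algebra k K]
    [Algebra L K] [IsScalarTower k L K] [IsSepClosed L] [ConnectedSpace (Points (bcSp X.obj L))] :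
    ConnectedSpace (Points (bcSp X.obj K)) :=
  connectedSpace_of_fibres (isOpenQuotientMap_ρ X L K) (isConnected_ρ_fibre X L K)

theorem connectedSpace_bc_of_sepClosed [IsSepClosed k] [ConnectedSpace (Points X.obj)]
    (K : Type u) [Field K] [Algebra k K] : ConnectedSpace (Points (bcSp X.obj K)) :=
  connectedSpace_of_fibres (isOpenQuotientMap_π X K) (isConnected_π_fibre X K)

/-- Connectedness over a separable closure propagates to every extension. -/
theorem connectedSpace_bc_of_sepClosure (L : Type u) [Field L] [Algebra k L] [IsSepClosure k L]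
    [ConnectedSpace (Points (bcSp X.obj L))] (K : Type u) [Field K] [Algebra k K] :
    ConnectedSpace (Points (bcSp X.obj K)) := by
  haveI : IsSepClosed L := IsSepClosure.sep_closed k
  haveI : Algebra.IsSeparable k L := IsSepClosure.separable
  let Ω := AlgebraicClosure K
  letI : Algebra L Ω := (IsSepClosed.lift : L →ₐ[k] Ω).toRingHom.toAlgebra
  haveI : IsScalarTower k L Ω := .of_algebraMap_eq fun a => ((IsSepClosed.lift : L →ₐ[k] Ω).commutes a).symm
  haveI := connectedSpace_of_sepClosed_tower X L Ω
  exact connectedSpace_of_tower X K Ω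

/-- An open set with compact closure under the orbit map is stable under an open subgroup. -/
theorem exists_stabilizing {K : Type u} [Field K] [Algebra k K] [IsGalois k K]
    {V : Set (Points (bcSp X.obj K))} (hV : IsOpen V) (hVc : IsCompact V) :
    ∃ N : OpenSubgroup (K ≃ₐ[k] K), ∀ g ∈ N, ∀ v ∈ V, g • v ∈ V := by
  choose O hO hxO hOV N hN using fun x : V => (isOrbitMap X K).exists_basic x.1 V hV x.2
  obtain ⟨s, hs⟩ := hVc.elim_finite_subcover O hO fun x hx => Set.mem_iUnion.2 ⟨⟨x, hx⟩, hxO ⟨x, hx⟩⟩
  refine ⟨s.inf N, fun g hg v hv => ?_⟩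
  obtain ⟨x, hxs, hvx⟩ := Set.mem_iUnion₂.1 (hs hv)
  exact hOV x (hN x g ((Finset.inf_le (f := N) hxs) hg) v hvx)

/-- Geometric connectedness can be checked on finite separable extensions. -/
theorem connectedSpace_bc_of_finite_separable
    (h : ∀ (k' : Type u) [Field k'] [Algebra k k'], Module.Finite k k' → Algebra.IsSeparable k k' →
      ConnectedSpace (Points (bcSp X.obj k')))
    (K : Type u) [Field K] [Algebra k K] : ConnectedSpace (Points (bcSp X.obj K)) := by
  let L := SeparableClosure k
  haveI := h k inferInstance inferInstance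
  haveI : ConnectedSpace (Points X.obj) :=
    GeomConn.Geometric.connectedSpace_of_surjective (isOpenQuotientMap_π X k).continuous
      (isOpenQuotientMap_π X k).surjective
  have hπ := isOrbitMap X L
  haveI : Nonempty (Points (bcSp X.obj L)) := ⟨(hπ.surjective (Classical.arbitrary _)).choose⟩
  haveI : PreconnectedSpace (Points (bcSp X.obj L)) := by
    refine preconnectedSpace_iff_clopen.mpr fun U hU => or_iff_not_imp_left.mpr fun hne => ?_
    rw [← ne_eq, ← Set.nonempty_iff_ne_empty] at hne
    obtain ⟨N, hN⟩ := hπ.exists_openSubgroup_clopen hU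
    obtain ⟨E, hE, hEN⟩ := GeomConn.Geometric.exists_finiteDimensional_le k L N
    haveI : Algebra.IsSeparable k E := Algebra.isSeparable_tower_bot_of_isSeparable k E L
    haveI := h E inferInstance inferInstance
    have hρ := isOpenQuotientMap_ρ X E L
    have hd : ∀ u ∈ U, ∀ v, ρ X E L u = ρ X E L v → v ∈ U := by
      intro u hu v huv
      obtain ⟨g, hg, rfl⟩ := exists_fixing_smul_eq X L E u v huv
      exact (hN g (hEN g hg) u).mpr hu
    have hpre : ρ X E L ⁻¹' (ρ X E L '' U) = U :=
      subset_antisymm (fun v ⟨u, hu, huv⟩ => hd u hu v huv) (Set.subset_preimage_image _ _)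
    have hcl : IsClopen (ρ X E L '' U) :=
      ⟨by rw [← hρ.isQuotientMap.isClosed_preimage, hpre]; exact hU.1, hρ.isOpenMap _ hU.2⟩
    rw [← hpre, hcl.eq_univ (hne.image _), Set.preimage_univ]
  haveI : ConnectedSpace (Points (bcSp X.obj L)) := ⟨inferInstance⟩
  exact connectedSpace_bc_of_sepClosure X L K

end Groth.Agent.Lib.AlgSpGeomConn
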